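import Groth.Agent.Lib.EtJ.ExtZero
import Mathlib.CategoryTheory.Sites.Pullback
import Mathlib.CategoryTheory.Limits.Preserves.Shapes.Pullbacks
import Mathlib.CategoryTheory.Limits.Preserves.Shapes.Equalizers
import Mathlib.CategoryTheory.IsConnected
import Mathlib.Algebra.Category.Grp.Limits
import Mathlib.Algebra.Category.Grp.Colimits
import Mathlib.Algebra.Category.Grp.AB

/-!
# Colimits over categories with filtered components are exact; left Kan extension along functors
# preserving fibre products and equalizers is exact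
-/

universe u

open CategoryTheory Limits Opposite

namespace Groth.Agent.Lib.SiteAb28.CompFiltered

section Colim

variable {I : Type u} [SmallCategory I]

/-- Spans can be completed and parallel pairs equalized on the right. -/
structure CompFilt (I : Type u) [SmallCategory I] : Prop where
  span : ∀ {i j k : I} (f : i ⟶ j) (g : i ⟶ k),
    ∃ (l : I) (a : j ⟶ l) (b : k ⟶ l), f ≫ a = g ≫ b
  coeq : ∀ {i j : I} (f g : i ⟶ j), ∃ (k : I) (h : j ⟶ k), f ≫ h = g ≫ h

variable (I) in
/-- Having a common target. -/
def Rel (i j : I) : Prop := ∃ k : I, Nonempty (i ⟶ k) ∧ Nonempty (j ⟶ k)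

variable (hI : CompFilt I)

include hI in
lemma rel_equivalence : Equivalence (Rel I) where
  refl i := ⟨i, ⟨𝟙 i⟩, ⟨𝟙 i⟩⟩
  symm := fun ⟨k, h, h'⟩ => ⟨k, h', h⟩
  trans := fun ⟨_, ⟨a⟩, ⟨b⟩⟩ ⟨_, ⟨c⟩, ⟨d⟩⟩ => by
    obtain ⟨l, p, q, -⟩ := hI.span b c
    exact ⟨l, ⟨a ≫ p⟩, ⟨d ≫ q⟩⟩

/-- The components. -/
abbrev Comp : Type u := Quotient (Setoid.mk (Rel I) (rel_equivalence hI))

/-- The component of an object. -/
abbrev cls (i : I) : Comp hI := Quotient.mk _ i

lemma cls_eq {i j : I} (f : i ⟶ j) : cls hI i = cls hI j :=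
  Quotient.sound ⟨j, ⟨f⟩, ⟨𝟙 j⟩⟩

/-- A component as a category. -/
abbrev Piece (q : Comp hI) : Type u := ObjectProperty.FullSubcategory (fun i => cls hI i = q)

instance (q : Comp hI) : IsFiltered (Piece hI q) := by
  haveI : Nonempty (Piece hI q) := by
    induction q using Quotient.ind with
    | _ i => exact ⟨⟨i, rfl⟩⟩
  haveI : IsFilteredOrEmpty (Piece hI q) :=
    { cocone_objs := fun i j => by
        obtain ⟨k, ⟨a⟩, ⟨b⟩⟩ := Quotient.exact (i.property.trans j.property.symm)
        exact ⟨⟨k, (cls_eq hI a).symm.trans i.property⟩, ObjectProperty.homMk a,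
          ObjectProperty.homMk b, trivial⟩
      cocone_maps := fun i j f g => by
        obtain ⟨k, h, hk⟩ := hI.coeq f.hom g.hom
        exact ⟨⟨k, (cls_eq hI h).symm.trans j.property⟩, ObjectProperty.homMk h,
          ObjectProperty.hom_ext _ hk⟩ }
  exact {}

/-- Inclusion of a component. -/
abbrev incl (q : Comp hI) : Piece hI q ⥤ I := ObjectProperty.ι _

variable (G : I ⥤ AddCommGrpCat.{u})

/-- The family of colimits over the components. -/
noncomputable abbrev pieceColim (q : Comp hI) : AddCommGrpCat.{u} := colimit (incl hI q ⋙ G)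

/-- The maps into the sum of the colimits over the components. -/
noncomputable def leg (i : I) : G.obj i ⟶ ∐ pieceColim hI G :=
  colimit.ι (incl hI (cls hI i) ⋙ G) ⟨i, rfl⟩ ≫ Sigma.ι (pieceColim hI G) (cls hI i)

lemma leg_eq (i : I) (q : Comp hI) (h : cls hI i = q) :
    leg hI G i = colimit.ι (incl hI q ⋙ G) ⟨i, h⟩ ≫ Sigma.ι (pieceColim hI G) q := by
  subst h
  rfl

/-- The comparison. -/
noncomputable def split : colimit G ⟶ ∐ pieceColim hI G :=
  colimit.desc G
    { pt := ∐ pieceColim hI G
      ι :=
        { app := leg hI G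
          naturality := fun i j f => by
            refine Eq.trans ?_ (Category.comp_id _).symm
            rw [leg_eq hI G i (cls hI j) (cls_eq hI f), leg_eq hI G j (cls hI j) rfl,
              ← Category.assoc]
            congr 1
            exact colimit.w (incl hI (cls hI j) ⋙ G)
              (ObjectProperty.homMk f : (⟨i, cls_eq hI f⟩ : Piece hI (cls hI j)) ⟶ ⟨j, rfl⟩) } }

/-- Its inverse. -/
noncomputable def glue : (∐ pieceColim hI G) ⟶ colimit G :=
  Sigma.desc fun q => colimit.pre G (incl hI q)

lemma split_glue : split hI G ≫ glue hI G = 𝟙 _ := colimit.hom_ext fun i => by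
  rw [split, colimit.ι_desc_assoc, Category.comp_id]
  change leg hI G i ≫ glue hI G = _
  rw [leg, glue, Category.assoc, Sigma.ι_desc, colimit.ι_pre]
  rfl

include hI in
lemma mono_colim_map {G H : I ⥤ AddCommGrpCat.{u}} (φ : G ⟶ H) [Mono φ] :
    Mono (colim.map φ) := by
  have : ∀ q, Mono (colim.map (Functor.whiskerLeft (incl hI q) φ)) := fun q => by
    have : ∀ i, Mono ((Functor.whiskerLeft (incl hI q) φ).app i) := fun i =>
      (NatTrans.mono_iff_mono_app φ).1 inferInstance _
    have := NatTrans.mono_of_mono_app (Functor.whiskerLeft (incl hI q) φ)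
    infer_instance
  let ψ : (∐ pieceColim hI G) ⟶ ∐ pieceColim hI H :=
    Limits.Sigma.map fun q => colim.map (Functor.whiskerLeft (incl hI q) φ)
  have : Mono ψ := by
    let t : Discrete.functor (pieceColim hI G) ⟶ Discrete.functor (pieceColim hI H) :=
      Discrete.natTrans fun q => colim.map (Functor.whiskerLeft (incl hI q.as) φ)
    have : ∀ q, Mono (t.app q) := fun q =>
      inferInstanceAs (Mono (colim.map (Functor.whiskerLeft (incl hI q.as) φ)))
    have := NatTrans.mono_of_mono_app t
    exact inferInstanceAs (Mono (colim.map t))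
  have h : colim.map φ ≫ split hI H = split hI G ≫ ψ := colimit.hom_ext fun i => by
    simp only [split, colim_map, ι_colimMap_assoc, colimit.ι_desc, colimit.ι_desc_assoc]
    simp only [leg, ψ, Category.assoc, Sigma.ι_map]
    rw [colim_map, ι_colimMap_assoc]
    rfl
  have : Mono (split hI G) := mono_of_mono_fac (split_glue hI G)
  exact mono_of_mono_fac h

include hI in
/-- Colimits over such categories are exact. -/
theorem hasExactColimitsOfShape : HasExactColimitsOfShape I AddCommGrpCat.{u} :=
  haveI : (colim (J := I) (C := AddCommGrpCat.{u})).PreservesMonomorphisms :=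
    ⟨fun φ _ => mono_colim_map hI φ⟩
  hasExactColimitsOfShape_of_preservesMono _ _

end Colim

variable {C D : Type u} [SmallCategory C] [SmallCategory D] (F : C ⥤ D) [HasPullbacks C]
  [HasEqualizers C] [PreservesLimitsOfShape WalkingCospan F]
  [PreservesLimitsOfShape WalkingParallelPair F]

lemma compFilt_costructuredArrow (W : Dᵒᵖ) : CompFilt (CostructuredArrow F.op W) where
  span {i j k} f g := by
    let a : j.left.unop ⟶ i.left.unop := f.left.unop
    let b : k.left.unop ⟶ i.left.unop := g.left.unop
    have ha : j.hom.unop ≫ F.map a = i.hom.unop :=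
      congrArg Quiver.Hom.unop (CostructuredArrow.w f)
    have hb : k.hom.unop ≫ F.map b = i.hom.unop :=
      congrArg Quiver.Hom.unop (CostructuredArrow.w g)
    have hP := (IsPullback.of_hasPullback a b).map F
    let t : W.unop ⟶ F.obj (pullback a b) := hP.lift j.hom.unop k.hom.unop (ha.trans hb.symm)
    refine ⟨CostructuredArrow.mk (S := F.op) (Y := op (pullback a b)) t.op,
      CostructuredArrow.homMk (pullback.fst a b).op
        (Quiver.Hom.unop_inj (hP.lift_fst _ _ _)),
      CostructuredArrow.homMk (pullback.snd a b).op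
        (Quiver.Hom.unop_inj (hP.lift_snd _ _ _)), ?_⟩
    exact CostructuredArrow.hom_ext _ _ (Quiver.Hom.unop_inj pullback.condition)
  coeq {i j} f g := by
    let a : j.left.unop ⟶ i.left.unop := f.left.unop
    let b : j.left.unop ⟶ i.left.unop := g.left.unop
    have ha : j.hom.unop ≫ F.map a = i.hom.unop :=
      congrArg Quiver.Hom.unop (CostructuredArrow.w f)
    have hb : j.hom.unop ≫ F.map b = i.hom.unop :=
      congrArg Quiver.Hom.unop (CostructuredArrow.w g)
    let t : W.unop ⟶ F.obj (equalizer a b) :=
      Fork.IsLimit.lift (isLimitOfHasEqualizerOfPreservesLimit F a b) j.hom.unop (ha.trans hb.symm)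
    refine ⟨CostructuredArrow.mk (S := F.op) (Y := op (equalizer a b)) t.op,
      CostructuredArrow.homMk (equalizer.ι a b).op (Quiver.Hom.unop_inj
        (Fork.IsLimit.lift_ι (isLimitOfHasEqualizerOfPreservesLimit F a b))), ?_⟩
    exact CostructuredArrow.hom_ext _ _ (Quiver.Hom.unop_inj (equalizer.condition a b))

theorem sheafPullback_preservesFiniteLimits (J : GrothendieckTopology C) (K : GrothendieckTopology D)
    [F.IsContinuous J K] : PreservesFiniteLimits (F.sheafPullback AddCommGrpCat.{u} J K) := by
  haveI : ∀ W, HasExactColimitsOfShape (CostructuredArrow F.op W) AddCommGrpCat.{u} := fun W =>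
    hasExactColimitsOfShape (compFilt_costructuredArrow F W)
  haveI : PreservesFiniteLimits (F.op.lan : (_ ⥤ AddCommGrpCat.{u}) ⥤ _) :=
    EtJ.ExtZero.lan_preservesFiniteLimits_of_exact _
  haveI : PreservesFiniteLimits
      (Functor.sheafPullbackConstruction.sheafPullback F AddCommGrpCat.{u} J K) := by
    have : PreservesFiniteLimits (F.op.lan ⋙ presheafToSheaf K AddCommGrpCat.{u}) :=
      comp_preservesFiniteLimits _ _
    exact comp_preservesFiniteLimits _ _
  exact preservesFiniteLimits_of_natIso
    (Functor.sheafPullbackConstruction.sheafPullbackIso F AddCommGrpCat.{u} J K).symm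

end Groth.Agent.Lib.SiteAb28.CompFiltered
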