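import Mathlib

/-!
# Sections of constant sheaves

A set-theoretic section of a surjection gives a section of the map of underlying sheaves of sets, so
taking sections of constant sheaves is exact.
-/

universe u

open CategoryTheory Limits Opposite

namespace Groth.Agent.Lib.SiteAb28.ConstSections

variable {C : Type u} [SmallCategory C] (J : GrothendieckTopology C)

section Generic

variable {D : Type*} [Category D] (U : D ⥤ Type u) [HasWeakSheafify J D]
  [J.PreservesSheafification U] [J.HasSheafCompose U]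

lemma exists_section {B A : D} (g : B ⟶ A) (hg : Function.Surjective (U.map g)) :
    ∃ σ : (sheafCompose J U).obj ((constantSheaf J D).obj A) ⟶
        (sheafCompose J U).obj ((constantSheaf J D).obj B),
      σ ≫ (sheafCompose J U).map ((constantSheaf J D).map g) = 𝟙 _ := by
  choose s hs using hg
  let e := constantCommuteCompose J U
  refine ⟨e.hom.app A ≫ (constantSheaf J (Type u)).map (↾s) ≫ e.inv.app B, ?_⟩
  have hn : e.inv.app B ≫ (sheafCompose J U).map ((constantSheaf J D).map g) =
      (constantSheaf J (Type u)).map (U.map g) ≫ e.inv.app A := (e.inv.naturality g).symm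
  simp only [Category.assoc]
  rw [hn, ← Functor.map_comp_assoc]
  rw [show (↾s : U.obj A ⟶ U.obj B) ≫ U.map g = 𝟙 _ from
    ConcreteCategory.hom_ext _ _ fun a => hs a, CategoryTheory.Functor.map_id, Category.id_comp]
  exact e.hom_inv_id_app A

lemma surjective_sections {B A : D} (g : B ⟶ A) (hg : Function.Surjective (U.map g)) (W : Cᵒᵖ) :
    Function.Surjective (U.map (((constantSheaf J D).map g).hom.app W)) := by
  obtain ⟨σ, hσ⟩ := exists_section J U g hg
  intro y
  have h : σ.hom.app W ≫ U.map (((constantSheaf J D).map g).hom.app W) = 𝟙 _ :=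
    congr_app ((sheafToPresheaf J (Type u)).congr_map hσ) W
  exact ⟨σ.hom.app W y, ConcreteCategory.congr_hom h y⟩

end Generic

section Ab

instance additive_constantSheaf : (constantSheaf J AddCommGrpCat.{u}).Additive :=
  haveI : (presheafToSheaf J AddCommGrpCat.{u}).Additive :=
    (sheafificationAdjunction J AddCommGrpCat.{u}).left_adjoint_additive
  inferInstanceAs (Functor.const Cᵒᵖ ⋙ presheafToSheaf J AddCommGrpCat.{u}).Additive

lemma preservesFiniteLimits_constantSheaf :
    PreservesFiniteLimits (constantSheaf J AddCommGrpCat.{u}) :=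
  inferInstanceAs (PreservesFiniteLimits (Functor.const Cᵒᵖ ⋙ presheafToSheaf J AddCommGrpCat.{u}))

lemma preservesFiniteLimits_sections (W : Cᵒᵖ) :
    PreservesFiniteLimits (constantSheaf J AddCommGrpCat.{u} ⋙
      (sheafSections J AddCommGrpCat.{u}).obj W) := by
  haveI := preservesFiniteLimits_constantSheaf J
  haveI : PreservesFiniteLimits ((sheafSections J AddCommGrpCat.{u}).obj W) :=
    inferInstanceAs (PreservesFiniteLimits (sheafToPresheaf J AddCommGrpCat.{u} ⋙
      (evaluation _ _).obj W))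
  infer_instance

theorem sections_shortExact (S : ShortComplex AddCommGrpCat.{u}) (hS : S.ShortExact) (W : Cᵒᵖ)
    [(constantSheaf J AddCommGrpCat.{u} ⋙ (sheafSections J AddCommGrpCat.{u}).obj W).PreservesZeroMorphisms] :
    (S.map (constantSheaf J AddCommGrpCat.{u} ⋙ (sheafSections J AddCommGrpCat.{u}).obj W)).ShortExact := by
  haveI := preservesFiniteLimits_sections J W
  haveI := hS.mono_f
  refine { exact := ShortComplex.exact_of_f_is_kernel _ (IsLimit.ofIsoLimit
             (KernelFork.mapIsLimit _ hS.fIsKernel (constantSheaf J AddCommGrpCat.{u} ⋙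
               (sheafSections J AddCommGrpCat.{u}).obj W)) (Fork.ext (Iso.refl _) (Category.id_comp _)))
           mono_f := ?_, epi_g := ?_ }
  · exact inferInstanceAs (Mono ((constantSheaf J AddCommGrpCat.{u} ⋙
      (sheafSections J AddCommGrpCat.{u}).obj W).map S.f))
  · rw [AddCommGrpCat.epi_iff_surjective]
    exact surjective_sections J (forget AddCommGrpCat.{u}) S.g
      ((AddCommGrpCat.epi_iff_surjective _).1 hS.epi_g) W

variable [HasExt.{u} (Sheaf J AddCommGrpCat.{u})]

theorem hom_lift {B A : AddCommGrpCat.{u}} (g : B ⟶ A) (hg : Function.Surjective g)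
    (φ : (constantSheaf J AddCommGrpCat.{u}).obj (AddCommGrpCat.of (ULift ℤ)) ⟶
      (constantSheaf J AddCommGrpCat.{u}).obj A) :
    ∃ ψ, ψ ≫ (constantSheaf J AddCommGrpCat.{u}).map g = φ := by
  obtain ⟨σ, hσ⟩ := exists_section J (forget AddCommGrpCat.{u}) g hg
  let Z : Cᵒᵖ ⥤ AddCommGrpCat.{u} := (Functor.const Cᵒᵖ).obj (AddCommGrpCat.of (ULift ℤ))
  let adj := sheafificationAdjunction J AddCommGrpCat.{u}
  let φ' : Z ⟶ ((constantSheaf J AddCommGrpCat.{u}).obj A).obj := adj.homEquiv _ _ φ
  let a : ∀ V : Cᵒᵖ, ((constantSheaf J AddCommGrpCat.{u}).obj B).obj.obj V := fun V =>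
    σ.hom.app V (φ'.app V ⟨1⟩)
  have ha : ∀ {V V' : Cᵒᵖ} (i : V ⟶ V'),
      ((constantSheaf J AddCommGrpCat.{u}).obj B).obj.map i (a V) = a V' := fun {V V'} i => by
    refine (NatTrans.naturality_apply σ.hom i (φ'.app V ⟨1⟩)).symm.trans (congrArg _ ?_)
    exact (NatTrans.naturality_apply φ' i ⟨1⟩).symm
  let ψ' : Z ⟶ ((constantSheaf J AddCommGrpCat.{u}).obj B).obj :=
    { app := fun V => AddCommGrpCat.ofHom ((zmultiplesHom _ (a V)).comp
        AddEquiv.ulift.toAddMonoidHom)
      naturality := fun V V' i => ConcreteCategory.hom_ext _ _ fun ⟨m⟩ =>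
        ((map_zsmul (((constantSheaf J AddCommGrpCat.{u}).obj B).obj.map i).hom m (a V)).trans
          (congrArg (m • ·) (ha i))).symm }
  refine ⟨(adj.homEquiv _ _).symm ψ', (adj.homEquiv _ _).injective ?_⟩
  refine (adj.homEquiv_naturality_right _ _).trans
    ((congrArg (· ≫ _) (Equiv.apply_symm_apply _ ψ')).trans ?_)
  refine NatTrans.ext (funext fun V => ConcreteCategory.hom_ext _ _ fun ⟨m⟩ => ?_)
  change ((constantSheaf J AddCommGrpCat.{u}).map g).hom.app V (m • a V) = φ'.app V ⟨m⟩
  rw [map_zsmul]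
  refine (congrArg (fun t : ((constantSheaf J AddCommGrpCat.{u}).obj A).obj.obj V => m • t)
    (ConcreteCategory.congr_hom
    (congr_app ((sheafToPresheaf J (Type u)).congr_map hσ) V) (φ'.app V ⟨1⟩))).trans ?_
  refine (map_zsmul (φ'.app V).hom m (⟨1⟩ : ULift ℤ)).symm.trans (congrArg (φ'.app V) ?_)
  exact ULift.ext _ _ (by simp)

theorem h_one_injective {A B : Type u} [AddCommGroup A] [AddCommGroup B] (f : A →+ B)
    (hf : Function.Injective f) :
    Function.Injective
      (Sheaf.H.map ((constantSheaf J AddCommGrpCat.{u}).map (AddCommGrpCat.ofHom f)) 1) := by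
  haveI : Mono (AddCommGrpCat.ofHom f) := (AddCommGrpCat.mono_iff_injective _).2 hf
  let S := ShortComplex.mk (AddCommGrpCat.ofHom f) (cokernel.π _) (cokernel.condition _)
  have hS : S.ShortExact := { exact := ShortComplex.exact_of_g_is_cokernel _ (cokernelIsCokernel _) }
  haveI := preservesFiniteLimits_constantSheaf J
  haveI : PreservesFiniteColimits (constantSheaf J AddCommGrpCat.{u}) := by
    haveI : PreservesColimitsOfSize.{0, 0} (presheafToSheaf J AddCommGrpCat.{u}) :=
      (sheafificationAdjunction J AddCommGrpCat.{u}).leftAdjoint_preservesColimits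
    exact inferInstanceAs (PreservesFiniteColimits (Functor.const Cᵒᵖ ⋙ presheafToSheaf J AddCommGrpCat.{u}))
  have hS' := hS.map_of_exact (constantSheaf J AddCommGrpCat.{u})
  rw [injective_iff_map_eq_zero]
  intro x hx
  obtain ⟨y, rfl⟩ := Abelian.Ext.covariant_sequence_exact₁ _ hS' x hx rfl
  obtain ⟨φ, rfl⟩ := (Abelian.Ext.mk₀_bijective _ _).2 y
  obtain ⟨ψ, rfl⟩ := hom_lift J S.g ((AddCommGrpCat.epi_iff_surjective _).1 hS.epi_g) φ
  erw [← Abelian.Ext.mk₀_comp_mk₀]
  erw [Abelian.Ext.comp_assoc (Abelian.Ext.mk₀ ψ) _ _ (add_zero 0)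
    (zero_add 1) (by omega)]
  refine (congrArg (fun t => Abelian.Ext.comp (Abelian.Ext.mk₀ ψ) t _) hS'.comp_extClass).trans ?_
  exact Abelian.Ext.comp_zero _ _ _ _ _

end Ab

end Groth.Agent.Lib.SiteAb28.ConstSections
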