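import Mathlib
import Groth.Agent.Lib.SiteAb28.ConstSections

/-!
# Sections of constant sheaves of modules and tensor products
-/

universe u

open CategoryTheory Limits Opposite TensorProduct

namespace Groth.Agent.Lib.SiteAb28.ConstTensor

variable {C : Type u} [SmallCategory C] (J : GrothendieckTopology C) (Λ : Type u) [CommRing Λ]
  (W : Cᵒᵖ)

/-- Sections of constant sheaves. -/
noncomputable abbrev G : ModuleCat.{u} Λ ⥤ ModuleCat.{u} Λ :=
  constantSheaf J (ModuleCat.{u} Λ) ⋙ (sheafSections J (ModuleCat.{u} Λ)).obj W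

instance additive_G : (G J Λ W).Additive := by
  haveI : (presheafToSheaf J (ModuleCat.{u} Λ)).Additive :=
    (sheafificationAdjunction J (ModuleCat.{u} Λ)).left_adjoint_additive
  haveI : (constantSheaf J (ModuleCat.{u} Λ)).Additive :=
    inferInstanceAs (Functor.const Cᵒᵖ ⋙ presheafToSheaf J (ModuleCat.{u} Λ)).Additive
  haveI : ((sheafSections J (ModuleCat.{u} Λ)).obj W).Additive :=
    inferInstanceAs (sheafToPresheaf J (ModuleCat.{u} Λ) ⋙ (evaluation _ _).obj W).Additive
  infer_instance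

lemma preservesFiniteLimits_G : PreservesFiniteLimits (G J Λ W) := by
  haveI : PreservesFiniteLimits (constantSheaf J (ModuleCat.{u} Λ)) :=
    inferInstanceAs (PreservesFiniteLimits (Functor.const Cᵒᵖ ⋙ presheafToSheaf J (ModuleCat.{u} Λ)))
  haveI : PreservesFiniteLimits ((sheafSections J (ModuleCat.{u} Λ)).obj W) :=
    inferInstanceAs (PreservesFiniteLimits (sheafToPresheaf J (ModuleCat.{u} Λ) ⋙
      (evaluation _ _).obj W))
  infer_instance

lemma G_surjective {A B : ModuleCat.{u} Λ} (g : A ⟶ B) (hg : Function.Surjective g) :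
    Function.Surjective ((G J Λ W).map g) :=
  ConstSections.surjective_sections J (forget (ModuleCat.{u} Λ)) g hg W

lemma G_injective {A B : ModuleCat.{u} Λ} (g : A ⟶ B) (hg : Function.Injective g) :
    Function.Injective ((G J Λ W).map g) := by
  haveI := preservesFiniteLimits_G J Λ W
  haveI := (ModuleCat.mono_iff_injective g).2 hg
  exact (ModuleCat.mono_iff_injective _).1 inferInstance

lemma G_exact {S : ShortComplex (ModuleCat.{u} Λ)} (hS : S.Exact) : (S.map (G J Λ W)).Exact := by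
  haveI := preservesFiniteLimits_G J Λ W
  have h : (∀ T : ShortComplex (ModuleCat.{u} Λ), T.ShortExact → (T.map (G J Λ W)).ShortExact) ↔
      (∀ T : ShortComplex (ModuleCat.{u} Λ), T.Exact → (T.map (G J Λ W)).Exact) :=
    (Functor.exact_tfae (G J Λ W)).out 0 1
  refine h.1 (fun T hT => ?_) S hS
  haveI := hT.mono_f
  refine { exact := ?_, mono_f := inferInstanceAs (Mono ((G J Λ W).map T.f)), epi_g := ?_ }
  · exact ShortComplex.exact_of_f_is_kernel _ (IsLimit.ofIsoLimit
      (KernelFork.mapIsLimit _ hT.fIsKernel (G J Λ W)) (Fork.ext (Iso.refl _) (Category.id_comp _)))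
  · exact (ModuleCat.epi_iff_surjective _).2
      (G_surjective J Λ W T.g ((ModuleCat.epi_iff_surjective _).1 hT.epi_g))

/-- Scalar endomorphisms. -/
noncomputable def scal (r : Λ) (M : ModuleCat.{u} Λ) : M ⟶ M :=
  ModuleCat.ofHom (r • (LinearMap.id : M →ₗ[Λ] M))

lemma G_smul {M N : ModuleCat.{u} Λ} (r : Λ) (f : M ⟶ N) :
    (G J Λ W).map (r • f) = r • (G J Λ W).map f := by
  let P : Cᵒᵖ ⥤ ModuleCat.{u} Λ := (Functor.const Cᵒᵖ).obj N
  let t : sheafify J P ⟶ sheafify J P :=
    { app := fun V => r • 𝟙 _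
      naturality := fun V V' i => by simp }
  have hN : sheafifyMap J ((Functor.const Cᵒᵖ).map (scal Λ r N)) = t := by
    apply sheafify_hom_ext J _ _ ((presheafToSheaf J (ModuleCat.{u} Λ)).obj P).property
    rw [← toSheafify_naturality]
    ext V : 2
    change scal Λ r N ≫ (toSheafify J P).app V = (toSheafify J P).app V ≫ (r • 𝟙 _)
    ext x
    exact map_smul ((toSheafify J P).app V).hom r x
  have e : r • f = f ≫ scal Λ r N := by
    ext x
    rfl
  rw [e, Functor.map_comp]
  refine (congrArg ((G J Λ W).map f ≫ ·) (congr_app hN W)).trans ?_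
  exact (Linear.comp_smul _ _ _ _ r (𝟙 _)).trans (congrArg (r • ·) (Category.comp_id _))

variable (M : ModuleCat.{u} Λ)

/-- Tensoring with an element. -/
noncomputable abbrev φ (Q : Type u) [AddCommGroup Q] [Module Λ Q] (q : Q) :
    M ⟶ ModuleCat.of Λ (M ⊗[Λ] Q) :=
  ModuleCat.ofHom ((TensorProduct.mk Λ M Q).flip q)

/-- The comparison map. -/
noncomputable def τ (Q : Type u) [AddCommGroup Q] [Module Λ Q] :
    (G J Λ W).obj M ⊗[Λ] Q →ₗ[Λ] (G J Λ W).obj (ModuleCat.of Λ (M ⊗[Λ] Q)) :=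
  TensorProduct.lift (LinearMap.mk₂ Λ (fun s q => (G J Λ W).map (φ Λ M Q q) s)
    (fun s s' q => map_add _ _ _) (fun r s q => map_smul _ _ _)
    (fun s q q' => by
      rw [show φ Λ M Q (q + q') = φ Λ M Q q + φ Λ M Q q' by simp [φ], Functor.map_add]
      rfl)
    (fun r s q => by
      rw [show φ Λ M Q (r • q) = r • φ Λ M Q q by simp [φ]; rfl, G_smul]
      rfl))

lemma τ_tmul (Q : Type u) [AddCommGroup Q] [Module Λ Q] (s : (G J Λ W).obj M) (q : Q) :
    τ J Λ W M Q (s ⊗ₜ q) = (G J Λ W).map (φ Λ M Q q) s := rfl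

lemma τ_nat {Q Q' : Type u} [AddCommGroup Q] [Module Λ Q] [AddCommGroup Q'] [Module Λ Q']
    (h : Q →ₗ[Λ] Q') (t : (G J Λ W).obj M ⊗[Λ] Q) :
    τ J Λ W M Q' (h.lTensor _ t) =
      (G J Λ W).map (ModuleCat.ofHom (h.lTensor M)) (τ J Λ W M Q t) := by
  induction t using TensorProduct.induction_on with
  | zero => simp
  | tmul s q =>
    rw [LinearMap.lTensor_tmul, τ_tmul, τ_tmul, ← ConcreteCategory.comp_apply, ← Functor.map_comp]
    rfl
  | add a b ha hb => simp only [map_add, ha, hb]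

section Free

variable (n : ℕ)

/-- Coordinate projection. -/
noncomputable def π (i : Fin n) : ModuleCat.of Λ (M ⊗[Λ] (Fin n → Λ)) ⟶ M :=
  ModuleCat.ofHom ((TensorProduct.rid Λ M).toLinearMap ∘ₗ (LinearMap.proj i).lTensor M)

lemma sum_π : ∑ i : Fin n, π Λ M n i ≫ φ Λ M (Fin n → Λ) (Pi.single i 1) = 𝟙 _ := by
  apply ModuleCat.hom_ext
  apply TensorProduct.ext'
  intro m v
  rw [ModuleCat.hom_sum, LinearMap.sum_apply]
  conv_rhs => rw [ModuleCat.hom_id, LinearMap.id_apply, pi_eq_sum_univ' v, TensorProduct.tmul_sum]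
  refine Finset.sum_congr rfl fun i _ => ?_
  simp [π, φ, TensorProduct.smul_tmul]

lemma bijective_τ_free : Function.Bijective (τ J Λ W M (Fin n → Λ)) := by
  let ψ : (G J Λ W).obj (ModuleCat.of Λ (M ⊗[Λ] (Fin n → Λ))) →ₗ[Λ]
      (G J Λ W).obj M ⊗[Λ] (Fin n → Λ) :=
    ∑ i, (((TensorProduct.mk Λ _ (Fin n → Λ)).flip (Pi.single i 1)) ∘ₗ
      ((G J Λ W).map (π Λ M n i)).hom)
  have h1 : ∀ y, τ J Λ W M _ (ψ y) = y := fun y => by
    have := congrArg (fun f => (G J Λ W).map f y) (sum_π Λ M n)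
    simp only [Functor.map_sum, CategoryTheory.Functor.map_id, ModuleCat.hom_sum,
      LinearMap.sum_apply] at this
    simp only [ψ, LinearMap.sum_apply, map_sum]
    refine (Finset.sum_congr rfl fun i _ => ?_).trans this
    rw [Functor.map_comp]
    rfl
  have h2 : ψ.comp (τ J Λ W M (Fin n → Λ)) = LinearMap.id := by
    apply TensorProduct.ext'
    intro s v
    simp only [ψ, LinearMap.comp_apply, LinearMap.sum_apply, LinearMap.id_apply]
    conv_rhs => rw [pi_eq_sum_univ' v, TensorProduct.tmul_sum]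
    refine Finset.sum_congr rfl fun i _ => ?_
    have e : φ Λ M (Fin n → Λ) v ≫ π Λ M n i = v i • 𝟙 M := by
      apply ModuleCat.hom_ext
      ext m
      simp [π, φ]
    change (G J Λ W).map (π Λ M n i) ((G J Λ W).map (φ Λ M _ v) s) ⊗ₜ[Λ] (Pi.single i (1 : Λ) : Fin n → Λ) =
      s ⊗ₜ[Λ] (v i • (Pi.single i (1 : Λ) : Fin n → Λ))
    rw [← ConcreteCategory.comp_apply, ← Functor.map_comp, e, G_smul, CategoryTheory.Functor.map_id,
      TensorProduct.tmul_smul]
    exact (TensorProduct.smul_tmul' (v i) s (Pi.single i (1 : Λ) : Fin n → Λ)).symm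
  exact ⟨Function.LeftInverse.injective (g := ψ) fun t => LinearMap.congr_fun h2 t,
    fun y => ⟨ψ y, h1 y⟩⟩

end Free

theorem bijective_τ (Q : Type u) [AddCommGroup Q] [Module Λ Q] [Module.FinitePresentation Λ Q] :
    Function.Bijective (τ J Λ W M Q) := by
  obtain ⟨n, m, p, r, hp, hpr⟩ := Module.FinitePresentation.exists_fin' (R := Λ) (M := Q)
  have hGp := G_surjective J Λ W (ModuleCat.ofHom (p.lTensor M)) (LinearMap.lTensor_surjective M hp)
  have hex := lTensor_exact M hpr hp
  let S := ShortComplex.mk (ModuleCat.ofHom (r.lTensor M)) (ModuleCat.ofHom (p.lTensor M))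
    (ModuleCat.hom_ext (LinearMap.ext fun x => hex.apply_apply_eq_zero x))
  have hS : S.Exact := (ShortComplex.moduleCat_exact_iff S).2 fun x hx => (hex x).1 hx
  refine ⟨(injective_iff_map_eq_zero _).2 fun t ht => ?_, fun y => ?_⟩
  · obtain ⟨t', rfl⟩ := LinearMap.lTensor_surjective _ hp t
    rw [τ_nat] at ht
    obtain ⟨z, hz⟩ := (ShortComplex.moduleCat_exact_iff _).1 (G_exact J Λ W hS) _ ht
    obtain ⟨z', rfl⟩ := (bijective_τ_free J Λ W M m).2 z
    have : t' = r.lTensor _ z' := by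
      apply (bijective_τ_free J Λ W M n).1
      rw [τ_nat]
      exact hz.symm
    rw [this, ← LinearMap.lTensor_comp_apply, hpr.linearMap_comp_eq_zero, LinearMap.lTensor_zero,
      LinearMap.zero_apply]
  · obtain ⟨y', rfl⟩ := hGp y
    obtain ⟨t, rfl⟩ := (bijective_τ_free J Λ W M n).2 y'
    exact ⟨p.lTensor _ t, τ_nat J Λ W M p t⟩

theorem flat (hΛ : ∀ I : Ideal Λ, I.FG → Module.FinitePresentation Λ I) [Module.Flat Λ M] :
    Module.Flat Λ ((G J Λ W).obj M) := by
  rw [Module.Flat.iff_lTensor_injective]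
  intro I hI
  haveI := hΛ I hI
  let e : ModuleCat.of Λ (M ⊗[Λ] I) ⟶ M :=
    ModuleCat.ofHom ((TensorProduct.rid Λ M).toLinearMap ∘ₗ I.subtype.lTensor M)
  have he : Function.Injective e :=
    (TensorProduct.rid Λ M).injective.comp
      (Module.Flat.lTensor_preserves_injective_linearMap _ I.injective_subtype)
  have key : ((G J Λ W).map e).hom.comp (τ J Λ W M I) =
      (TensorProduct.rid Λ _).toLinearMap ∘ₗ I.subtype.lTensor ((G J Λ W).obj M) := by
    apply TensorProduct.ext'
    intro s q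
    have e' : φ Λ M I q ≫ e = (q : Λ) • 𝟙 M := by
      apply ModuleCat.hom_ext
      ext m
      simp [e, φ]
    change (G J Λ W).map e ((G J Λ W).map (φ Λ M I q) s) = _
    rw [← ConcreteCategory.comp_apply, ← Functor.map_comp, e', G_smul,
      CategoryTheory.Functor.map_id]
    simp
  have := (G_injective J Λ W e he).comp (bijective_τ J Λ W M I).1
  rw [show ⇑((G J Λ W).map e) ∘ ⇑(τ J Λ W M I) = ⇑(((G J Λ W).map e).hom.comp (τ J Λ W M I))
    from rfl, key, LinearMap.coe_comp] at this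
  exact this.of_comp

end Groth.Agent.Lib.SiteAb28.ConstTensor
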