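import Mathlib.CategoryTheory.Sites.Pullback
import Mathlib.CategoryTheory.Adjunction.Additive
import Mathlib.CategoryTheory.Sites.Subsheaf
import Mathlib.CategoryTheory.Sites.Limits
import Mathlib.CategoryTheory.Sites.Abelian
import Mathlib.CategoryTheory.Sites.EpiMono
import Mathlib.CategoryTheory.Limits.Preserves.Finite
import Mathlib.CategoryTheory.Limits.Types.Products
import Mathlib.Algebra.Category.Grp.Abelian
import Mathlib.Algebra.Category.Grp.FilteredColimits
import Mathlib.Algebra.Homology.ShortComplex.ExactFunctor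
import Mathlib.Algebra.Category.Grp.Limits
import Mathlib.Algebra.Category.Grp.Zero
import Mathlib.CategoryTheory.Abelian.Exact
import Mathlib.Algebra.Category.Grp.Adjunctions

/-!
# Exactness of the inverse image on abelian sheaves, from exactness on sheaves of sets
-/

universe u

open CategoryTheory Limits Opposite ZeroObject

namespace Groth.Agent.Lib.SiteAb28.PullAb

variable {C D : Type u} [SmallCategory C] [SmallCategory D]
  {J : GrothendieckTopology C} {K : GrothendieckTopology D} (u : D ⥤ C) [u.IsContinuous K J]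

variable (J K) in
/-- The inverse image of sheaves of sets. -/
noncomputable abbrev P : Sheaf K (Type u) ⥤ Sheaf J (Type u) := u.sheafPullback (Type u) K J

variable (J K) in
/-- The adjunction on sheaves of sets. -/
noncomputable abbrev adjT := u.sheafAdjunctionContinuous (Type u) K J

variable (J K) in
/-- The adjunction on abelian sheaves. -/
noncomputable abbrev adjA := u.sheafAdjunctionContinuous AddCommGrpCat.{u} K J

/-- The underlying sheaf of sets. -/
noncomputable abbrev U {C : Type u} [SmallCategory C] (J : GrothendieckTopology C) :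
    Sheaf J AddCommGrpCat.{u} ⥤ Sheaf J (Type u) := sheafCompose J (forget AddCommGrpCat.{u})

section Elements

variable {S T : Sheaf K (Type u)}

/-- The unit on sections. -/
noncomputable def un (S : Sheaf K (Type u)) {V : D} (s : S.obj.obj (op V)) :
    ((P J K u).obj S).obj.obj (op (u.obj V)) :=
  ((adjT J K u).unit.app S).hom.app (op V) s

lemma un_map {V V' : D} (g : V' ⟶ V) (s : S.obj.obj (op V)) :
    ((P J K u).obj S).obj.map (u.map g).op (un u S s) = un (J := J) u S (S.obj.map g.op s) :=
  (NatTrans.naturality_apply ((adjT J K u).unit.app S).hom g.op s).symm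

lemma un_natural (φ : S ⟶ T) {V : D} (s : S.obj.obj (op V)) :
    ((P J K u).map φ).hom.app (op (u.obj V)) (un u S s) = un (J := J) u T (φ.hom.app (op V) s) :=
  (ConcreteCategory.congr_hom
    (congr_app (congrArg (·.hom) ((adjT J K u).unit.naturality φ)) (op V)) s).symm

/-- The element of the inverse image given by `h` and `s`. -/
noncomputable def e (S : Sheaf K (Type u)) {W : C} {V : D} (h : W ⟶ u.obj V)
    (s : S.obj.obj (op V)) : ((P J K u).obj S).obj.obj (op W) :=
  ((P J K u).obj S).obj.map h.op (un u S s)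

lemma e_res {W W' : C} {V : D} (g : W' ⟶ W) (h : W ⟶ u.obj V) (s : S.obj.obj (op V)) :
    ((P J K u).obj S).obj.map g.op (e u S h s) = e (J := J) u S (g ≫ h) s := by
  rw [e, e, ← Functor.map_comp_apply]
  rfl

lemma e_map (φ : S ⟶ T) {W : C} {V : D} (h : W ⟶ u.obj V) (s : S.obj.obj (op V)) :
    ((P J K u).map φ).hom.app (op W) (e u S h s) = e (J := J) u T h (φ.hom.app (op V) s) := by
  rw [e, e, NatTrans.naturality_apply, un_natural]

lemma e_id {V : D} (s : S.obj.obj (op V)) : e (J := J) u S (𝟙 (u.obj V)) s = un u S s := by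
  rw [e, op_id, CategoryTheory.Functor.map_id_apply]

/-- Morphisms out of the inverse image agree if they agree on the elements. -/
lemma hom_ext {X : Sheaf J (Type u)} {φ ψ : (P J K u).obj S ⟶ X}
    (h : ∀ (W : C) (V : D) (a : W ⟶ u.obj V) (s : S.obj.obj (op V)),
      φ.hom.app (op W) (e u S a s) = ψ.hom.app (op W) (e u S a s)) : φ = ψ := by
  apply ((adjT J K u).homEquiv S X).injective
  refine Sheaf.hom_ext (NatTrans.ext (funext fun V => ConcreteCategory.hom_ext _ _ fun s => ?_))
  simp only [Adjunction.homEquiv_unit]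
  have := h (u.obj V.unop) V.unop (𝟙 _) s
  rw [e_id] at this
  exact this

/-- The elements. -/
def gens (S : Sheaf K (Type u)) : Subfunctor ((P J K u).obj S).obj where
  obj W := {x | ∃ (V : D) (h : W.unop ⟶ u.obj V) (s : S.obj.obj (op V)), x = e u S h s}
  map := by
    rintro W W' g _ ⟨V, h, s, rfl⟩
    exact ⟨V, g.unop ≫ h, s, e_res u g.unop h s⟩

/-- Every section is, locally, one of the elements. -/
lemma locally_e (S : Sheaf K (Type u)) {W : C} (x : ((P J K u).obj S).obj.obj (op W)) :
    ∃ R ∈ J W, ∀ W' (g : W' ⟶ W), Sieve.arrows R g → ∃ (V : D) (h : W' ⟶ u.obj V)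
      (s : S.obj.obj (op V)), ((P J K u).obj S).obj.map g.op x = e u S h s := by
  let G := (gens (J := J) u S).sheafify J
  let Y : Sheaf J (Type u) := ⟨G.toFunctor, (isSheaf_iff_isSheaf_of_type J _).2
    (Subfunctor.sheafify_isSheaf _ ((isSheaf_iff_isSheaf_of_type J _).1 ((P J K u).obj S).property))⟩
  have hmem : ∀ (V : D) (s : S.obj.obj (op V)),
      ((adjT J K u).unit.app S).hom.app (op V) s ∈ G.obj (op (u.obj V)) := fun V s =>
    Subfunctor.le_sheafify J (gens (J := J) u S) _ ⟨V, 𝟙 _, s, (e_id u s).symm⟩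
  let η' : S ⟶ (u.sheafPushforwardContinuous (Type u) K J).obj Y :=
    ⟨{ app := fun V => ↾fun s => ⟨((adjT J K u).unit.app S).hom.app V s, hmem V.unop s⟩
       naturality := fun V V' g => ConcreteCategory.hom_ext _ _ fun s => Subtype.ext
         (NatTrans.naturality_apply ((adjT J K u).unit.app S).hom g s) }⟩
  let ψ : (P J K u).obj S ⟶ Y := ((adjT J K u).homEquiv S Y).symm η'
  have hψ : ψ ≫ (⟨G.ι⟩ : Y ⟶ (P J K u).obj S) = 𝟙 _ := by
    apply ((adjT J K u).homEquiv _ _).injective
    rw [(adjT J K u).homEquiv_naturality_right, Equiv.apply_symm_apply, Adjunction.homEquiv_id]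
    rfl
  have hx : x ∈ G.obj (op W) := by
    have := ConcreteCategory.congr_hom (congr_app (congrArg (·.hom) hψ) (op W)) x
    have h2 : ((ψ.hom.app (op W) x).1 : _) = x := this
    rw [← h2]
    exact (ψ.hom.app (op W) x).2
  exact ⟨_, hx, fun W' g ⟨V, h, s, hs⟩ => ⟨V, h, s, hs⟩⟩

omit [u.IsContinuous K J] in
lemma sec_ext {X : Sheaf J (Type u)} {W : C} {R : Sieve W} (hR : R ∈ J W)
    {x y : X.obj.obj (op W)}
    (h : ∀ W' (g : W' ⟶ W), R.arrows g → X.obj.map g.op x = X.obj.map g.op y) : x = y :=
  (((isSheaf_iff_isSheaf_of_type J _).1 X.property) R hR).isSeparatedFor.ext fun _ g hg => h _ g hg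

end Elements

section Pairs

variable [PreservesFiniteLimits (P J K u)] (A B : Sheaf K AddCommGrpCat.{u})

/-- The inverse image of the underlying set of an abelian sheaf. -/
noncomputable abbrev X : Sheaf J (Type u) := (P J K u).obj ((U K).obj A)

variable {A B}

/-- The elements, for abelian sheaves. -/
noncomputable def ea {W : C} {V : D} (h : W ⟶ u.obj V) (a : A.obj.obj (op V)) :
    (X (J := J) u A).obj.obj (op W) :=
  e u ((U K).obj A) h a

omit [PreservesFiniteLimits (P J K u)] in
lemma ea_res {W W' : C} {V : D} (g : W' ⟶ W) (h : W ⟶ u.obj V) (a : A.obj.obj (op V)) :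
    (X u A).obj.map g.op (ea u h a) = ea (J := J) u (g ≫ h) a :=
  e_res u (S := (U K).obj A) g h a

/-- Functoriality on sections. -/
noncomputable def pm (f : A ⟶ B) {W : C} (x : (X (J := J) u A).obj.obj (op W)) :
    (X (J := J) u B).obj.obj (op W) :=
  ((P J K u).map ((U K).map f)).hom.app (op W) x

omit [PreservesFiniteLimits (P J K u)] in
lemma pm_res (f : A ⟶ B) {W W' : C} (g : W' ⟶ W) (x : (X (J := J) u A).obj.obj (op W)) :
    (X u B).obj.map g.op (pm u f x) = pm u f ((X u A).obj.map g.op x) :=
  (NatTrans.naturality_apply ((P J K u).map ((U K).map f)).hom g.op x).symm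

omit [PreservesFiniteLimits (P J K u)] in
lemma pm_ea (f : A ⟶ B) {W : C} {V : D} (h : W ⟶ u.obj V) (a : A.obj.obj (op V)) :
    pm u f (ea (J := J) u h a) = ea u h (f.hom.app (op V) a) :=
  e_map u ((U K).map f) h a

omit [PreservesFiniteLimits (P J K u)] in
lemma locally_ea {W : C} (x : (X (J := J) u A).obj.obj (op W)) :
    ∃ R ∈ J W, ∀ W' (g : W' ⟶ W), Sieve.arrows R g → ∃ (V : D) (h : W' ⟶ u.obj V)
      (a : A.obj.obj (op V)), (X (J := J) u A).obj.map g.op x = ea u h a :=
  locally_e u _ x

variable (A B) in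
/-- A pair of sections of the inverse images is one section of that of the sum. -/
lemma bijective_pair (W : C) : Function.Bijective
    (fun p : (X (J := J) u (A ⊞ B)).obj.obj (op W) =>
      (pm u (biprod.fst : A ⊞ B ⟶ A) p, pm u (biprod.snd : A ⊞ B ⟶ B) p)) := by
  let F : Sheaf K AddCommGrpCat.{u} ⥤ Type u :=
    U K ⋙ P J K u ⋙ sheafToPresheaf J (Type u) ⋙ (evaluation Cᵒᵖ (Type u)).obj (op W)
  haveI : PreservesLimitsOfShape (Discrete WalkingPair) (U K) := by
    haveI : PreservesLimitsOfShape (Discrete WalkingPair) (U K ⋙ sheafToPresheaf K (Type u)) :=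
      inferInstanceAs (PreservesLimitsOfShape (Discrete WalkingPair)
        (sheafToPresheaf K AddCommGrpCat.{u} ⋙
          (Functor.whiskeringRight Dᵒᵖ AddCommGrpCat.{u} (Type u)).obj (forget AddCommGrpCat.{u})))
    exact preservesLimitsOfShape_of_reflects_of_preserves _ (sheafToPresheaf K (Type u))
  haveI : PreservesLimitsOfShape (Discrete WalkingPair) F := by
    dsimp only [F]
    infer_instance
  have hl : IsLimit (BinaryFan.mk (F.map (biprod.fst : A ⊞ B ⟶ A)) (F.map biprod.snd)) :=
    mapIsLimitOfPreservesOfIsLimit F biprod.fst biprod.snd (BinaryBiproduct.isLimit A B)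
  let i := hl.conePointUniqueUpToIso (Types.binaryProductLimit _ _)
  have h1 := hl.conePointUniqueUpToIso_hom_comp (Types.binaryProductLimit _ _) ⟨WalkingPair.left⟩
  have h2 := hl.conePointUniqueUpToIso_hom_comp (Types.binaryProductLimit _ _) ⟨WalkingPair.right⟩
  have hb : Function.Bijective i.hom := (isIso_iff_bijective _).1 inferInstance
  have e : (fun p : (X (J := J) u (A ⊞ B)).obj.obj (op W) =>
      (pm u (biprod.fst : A ⊞ B ⟶ A) p, pm u (biprod.snd : A ⊞ B ⟶ B) p)) = fun p => i.hom p :=
    funext fun p => Prod.ext (ConcreteCategory.congr_hom h1 p).symm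
      (ConcreteCategory.congr_hom h2 p).symm
  rw [e]
  exact hb

/-- The section of the sum given by a pair. -/
noncomputable def pair {W : C} (x : (X (J := J) u A).obj.obj (op W))
    (y : (X (J := J) u B).obj.obj (op W)) : (X (J := J) u (A ⊞ B)).obj.obj (op W) :=
  (Equiv.ofBijective _ (bijective_pair u A B W)).symm (x, y)

lemma pm_fst_pair {W : C} (x : (X (J := J) u A).obj.obj (op W))
    (y : (X (J := J) u B).obj.obj (op W)) : pm u biprod.fst (pair u x y) = x :=
  congrArg Prod.fst ((Equiv.ofBijective _ (bijective_pair (J := J) u A B W)).apply_symm_apply (x, y))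

lemma pm_snd_pair {W : C} (x : (X (J := J) u A).obj.obj (op W))
    (y : (X (J := J) u B).obj.obj (op W)) : pm u biprod.snd (pair u x y) = y :=
  congrArg Prod.snd ((Equiv.ofBijective _ (bijective_pair (J := J) u A B W)).apply_symm_apply (x, y))

lemma pair_eq {W : C} {x : (X (J := J) u A).obj.obj (op W)} {y : (X (J := J) u B).obj.obj (op W)}
    {p : (X (J := J) u (A ⊞ B)).obj.obj (op W)} (h1 : pm u biprod.fst p = x)
    (h2 : pm u biprod.snd p = y) : pair u x y = p :=
  (bijective_pair u A B W).1 (Prod.ext ((pm_fst_pair u x y).trans h1.symm)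
    ((pm_snd_pair u x y).trans h2.symm))

/-- Two sections are, locally, elements along one map. -/
lemma locally_ea₂ {W : C} (x : (X (J := J) u A).obj.obj (op W))
    (y : (X (J := J) u B).obj.obj (op W)) :
    ∃ R ∈ J W, ∀ W' (g : W' ⟶ W), Sieve.arrows R g → ∃ (V : D) (h : W' ⟶ u.obj V)
      (a : A.obj.obj (op V)) (b : B.obj.obj (op V)),
      (X (J := J) u A).obj.map g.op x = ea u h a ∧
      (X (J := J) u B).obj.map g.op y = ea u h b := by
  obtain ⟨R, hR, hR'⟩ := locally_ea u (pair u x y)
  refine ⟨R, hR, fun W' g hg => ?_⟩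
  obtain ⟨V, h, s, hs⟩ := hR' W' g hg
  refine ⟨V, h, (biprod.fst : A ⊞ B ⟶ A).hom.app (op V) s,
    (biprod.snd : A ⊞ B ⟶ B).hom.app (op V) s, ?_, ?_⟩
  · rw [← pm_ea, ← hs, ← pm_res, pm_fst_pair]
  · rw [← pm_ea, ← hs, ← pm_res, pm_snd_pair]

/-- The addition on the inverse image of the underlying set. -/
noncomputable def add {W : C} (x y : (X (J := J) u A).obj.obj (op W)) :
    (X (J := J) u A).obj.obj (op W) :=
  pm u (biprod.fst + biprod.snd : A ⊞ A ⟶ A) (pair u x y)

lemma add_res {W W' : C} (g : W' ⟶ W) (x y : (X (J := J) u A).obj.obj (op W)) :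
    (X u A).obj.map g.op (add u x y) = add u ((X u A).obj.map g.op x) ((X u A).obj.map g.op y) := by
  rw [add, add, pm_res]
  refine congrArg _ (pair_eq u ?_ ?_).symm
  · rw [← pm_res, pm_fst_pair]
  · rw [← pm_res, pm_snd_pair]

lemma add_ea {W : C} {V : D} (h : W ⟶ u.obj V) (a b : A.obj.obj (op V)) :
    add u (ea u h a) (ea u h b) = ea (J := J) u h (a + b) := by
  let s : (A ⊞ A).obj.obj (op V) := (biprod.inl : A ⟶ A ⊞ A).hom.app (op V) a +
    (biprod.inr : A ⟶ A ⊞ A).hom.app (op V) b
  have ap : ∀ {M N Q : Sheaf K AddCommGrpCat.{u}} (f : M ⟶ N)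
      (g : N ⟶ Q) (k : M ⟶ Q) (_ : f ≫ g = k) (z : M.obj.obj (op V)),
      g.hom.app (op V) (f.hom.app (op V) z) = k.hom.app (op V) z := fun f g k hk z => by
    subst hk
    rfl
  have hfst : (biprod.fst : A ⊞ A ⟶ A).hom.app (op V) s = a := by
    rw [map_add, ap _ _ _ biprod.inl_fst, ap _ _ _ biprod.inr_fst]
    exact add_zero a
  have hsnd : (biprod.snd : A ⊞ A ⟶ A).hom.app (op V) s = b := by
    rw [map_add, ap _ _ _ biprod.inl_snd, ap _ _ _ biprod.inr_snd]
    exact zero_add b
  have hp : pair u (ea u h a) (ea u h b) = ea (J := J) u h s :=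
    pair_eq u ((pm_ea u _ h s).trans (congrArg _ hfst)) ((pm_ea u _ h s).trans (congrArg _ hsnd))
  rw [add, hp, pm_ea]
  refine congrArg _ ?_
  change (biprod.fst : A ⊞ A ⟶ A).hom.app (op V) s + (biprod.snd : A ⊞ A ⟶ A).hom.app (op V) s = _
  rw [hfst, hsnd]

lemma subsingleton_zero (W : C) :
    Subsingleton ((X (J := J) u (0 : Sheaf K AddCommGrpCat.{u})).obj.obj (op W)) := by
  refine ⟨fun x y => ?_⟩
  obtain ⟨R, hR, hR'⟩ := locally_ea₂ u x y
  refine sec_ext hR fun W' g hg => ?_
  obtain ⟨V, h, a, b, ha, hb⟩ := hR' W' g hg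
  have hz : IsZero ((0 : Sheaf K AddCommGrpCat.{u}).obj.obj (op V)) :=
    Functor.map_isZero (sheafToPresheaf K AddCommGrpCat.{u} ⋙ (evaluation _ _).obj (op V))
      (isZero_zero _)
  rw [ha, hb, @Subsingleton.elim _ (AddCommGrpCat.isZero_iff_subsingleton.1 hz) a b]

lemma nonempty_zero (W : C) :
    Nonempty ((X (J := J) u (0 : Sheaf K AddCommGrpCat.{u})).obj.obj (op W)) := by
  have hT : IsTerminal ((U K).obj (0 : Sheaf K AddCommGrpCat.{u})) := by
    haveI : PreservesLimit (Functor.empty.{0} (Sheaf K AddCommGrpCat.{u})) (U K) := by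
      haveI : PreservesLimit (Functor.empty.{0} (Sheaf K AddCommGrpCat.{u}))
          (U K ⋙ sheafToPresheaf K (Type u)) :=
        inferInstanceAs (PreservesLimit _ (sheafToPresheaf K AddCommGrpCat.{u} ⋙
          (Functor.whiskeringRight Dᵒᵖ AddCommGrpCat.{u} (Type u)).obj (forget AddCommGrpCat.{u})))
      exact preservesLimit_of_reflects_of_preserves _ (sheafToPresheaf K (Type u))
    exact IsTerminal.isTerminalObj (U K) _ (isZero_zero _).isTerminal
  let F : Sheaf K (Type u) ⥤ Type u :=
    P J K u ⋙ sheafToPresheaf J (Type u) ⋙ (evaluation Cᵒᵖ (Type u)).obj (op W)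
  exact ⟨(IsTerminal.isTerminalObj F _ hT).from PUnit.{u + 1} PUnit.unit⟩

/-- The neutral element. -/
noncomputable def zero (W : C) : (X (J := J) u A).obj.obj (op W) :=
  pm u (0 : 0 ⟶ A) (nonempty_zero u W).some

lemma zero_res {W W' : C} (g : W' ⟶ W) :
    (X (J := J) u A).obj.map g.op (zero u W) = zero u W' := by
  rw [zero, zero, pm_res]
  exact congrArg _ ((subsingleton_zero u W').elim _ _)

lemma zero_eq {W : C} {V : D} (h : W ⟶ u.obj V) :
    zero u W = ea (J := J) u h (0 : A.obj.obj (op V)) := by
  rw [zero, (subsingleton_zero u W).elim (nonempty_zero u W).some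
    (ea u h (0 : (0 : Sheaf K AddCommGrpCat.{u}).obj.obj (op V))), pm_ea, map_zero]

/-- The negation. -/
noncomputable def neg {W : C} (x : (X (J := J) u A).obj.obj (op W)) :
    (X (J := J) u A).obj.obj (op W) :=
  pm u (-𝟙 A) x

lemma add_comm' {W : C} (x y : (X (J := J) u A).obj.obj (op W)) : add u x y = add u y x := by
  obtain ⟨R, hR, hR'⟩ := locally_ea₂ u x y
  refine sec_ext hR fun W' g hg => ?_
  obtain ⟨V, h, a, b, ha, hb⟩ := hR' W' g hg
  rw [add_res, add_res, ha, hb, add_ea, add_ea, add_comm]

lemma zero_add' {W : C} (x : (X (J := J) u A).obj.obj (op W)) : add u (zero u W) x = x := by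
  obtain ⟨R, hR, hR'⟩ := locally_ea u x
  refine sec_ext hR fun W' g hg => ?_
  obtain ⟨V, h, a, ha⟩ := hR' W' g hg
  rw [add_res, zero_res, ha, zero_eq u h, add_ea, zero_add]

lemma neg_add' {W : C} (x : (X (J := J) u A).obj.obj (op W)) :
    add u (neg u x) x = zero u W := by
  obtain ⟨R, hR, hR'⟩ := locally_ea u x
  refine sec_ext hR fun W' g hg => ?_
  obtain ⟨V, h, a, ha⟩ := hR' W' g hg
  have h1 : (X u A).obj.map g.op (neg u x) = ea (J := J) u h (-a) := by
    rw [neg, pm_res, ha, pm_ea]
    rfl
  rw [add_res, h1, ha, add_ea, neg_add_cancel, zero_res, zero_eq u h]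

lemma add_assoc' {W : C} (x y z : (X (J := J) u A).obj.obj (op W)) :
    add u (add u x y) z = add u x (add u y z) := by
  obtain ⟨R, hR, hR'⟩ := locally_ea₂ u x (pair u y z)
  refine sec_ext hR fun W' g hg => ?_
  obtain ⟨V, h, a, s, ha, hs⟩ := hR' W' g hg
  have hy : (X u A).obj.map g.op y = ea (J := J) u h
      ((biprod.fst : A ⊞ A ⟶ A).hom.app (op V) s) := by
    rw [← pm_ea, ← hs, ← pm_res, pm_fst_pair]
  have hz : (X u A).obj.map g.op z = ea (J := J) u h
      ((biprod.snd : A ⊞ A ⟶ A).hom.app (op V) s) := by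
    rw [← pm_ea, ← hs, ← pm_res, pm_snd_pair]
  rw [add_res, add_res, add_res, add_res, ha, hy, hz, add_ea, add_ea, add_ea, add_ea, add_assoc]

variable (A) in
/-- The inverse image of the underlying set is a group. -/
@[implicit_reducible]
noncomputable def group (W : C) : AddCommGroup ((X (J := J) u A).obj.obj (op W)) :=
  letI : Add ((X (J := J) u A).obj.obj (op W)) := ⟨add u⟩
  letI : Zero ((X (J := J) u A).obj.obj (op W)) := ⟨zero u W⟩
  letI : Neg ((X (J := J) u A).obj.obj (op W)) := ⟨neg u⟩
  { add_assoc := add_assoc' u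
    zero_add := zero_add' u
    add_zero := fun x => (add_comm' u x _).trans (zero_add' u x)
    add_comm := add_comm' u
    neg_add_cancel := neg_add' u
    nsmul := nsmulRec
    zsmul := zsmulRec }

variable (A) in
/-- The inverse image as an abelian sheaf. -/
noncomputable def lift : Sheaf J AddCommGrpCat.{u} where
  obj :=
    { obj := fun W => @AddCommGrpCat.of _ (group (J := J) u A W.unop)
      map := fun {W W'} g =>
        letI := group (J := J) u A W.unop
        letI := group (J := J) u A W'.unop
        AddCommGrpCat.ofHom (AddMonoidHom.mk' ((X (J := J) u A).obj.map g) fun x y =>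
          add_res u g.unop x y)
      map_id := fun W => by
        letI := group (J := J) u A W.unop
        exact AddCommGrpCat.hom_ext (AddMonoidHom.ext fun x =>
          CategoryTheory.Functor.map_id_apply (X (J := J) u A).obj W x)
      map_comp := fun {W W' W''} g g' => by
        letI := group (J := J) u A W.unop
        letI := group (J := J) u A W''.unop
        exact AddCommGrpCat.hom_ext (AddMonoidHom.ext fun x =>
          Functor.map_comp_apply (X (J := J) u A).obj g g' x) }
  property := (Presheaf.isSheaf_iff_isSheaf_forget J _ (forget AddCommGrpCat.{u})).2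
    (X (J := J) u A).property

omit [PreservesFiniteLimits (P J K u)] in
lemma ea_natural {V V' : Dᵒᵖ} (g : V ⟶ V') (a : A.obj.obj V) :
    (X (J := J) u A).obj.map (u.map g.unop).op (ea u (𝟙 (u.obj V.unop)) a) =
      ea u (𝟙 (u.obj V'.unop)) (A.obj.map g a) := by
  exact (congrArg _ (e_id (J := J) u (S := (U K).obj A) a)).trans
    ((un_map (J := J) u (S := (U K).obj A) g.unop a).trans
      (e_id (J := J) u (S := (U K).obj A) (A.obj.map g a)).symm)

variable (A) in
/-- The comparison out of the abelian inverse image. -/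
noncomputable def rho : (u.sheafPullback AddCommGrpCat.{u} K J).obj A ⟶ lift u A :=
  ((adjA J K u).homEquiv A (lift u A)).symm
    ⟨{ app := fun V =>
        letI := group (J := J) u A (u.op.obj V).unop
        AddCommGrpCat.ofHom (AddMonoidHom.mk'
          (fun a : A.obj.obj V => ea u (𝟙 (u.obj V.unop)) a) (fun a b => (add_ea u _ a b).symm))
       naturality := fun V V' g => by
        ext a
        exact (ea_natural u g a).symm }⟩

/-- The unit on sections, for abelian sheaves. -/
noncomputable def una {V : D} (a : A.obj.obj (op V)) :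
    ((u.sheafPullback AddCommGrpCat.{u} K J).obj A).obj.obj (op (u.obj V)) :=
  ((adjA J K u).unit.app A).hom.app (op V) a

omit [PreservesFiniteLimits (P J K u)] in
lemma una_map {V V' : D} (g : V' ⟶ V) (a : A.obj.obj (op V)) :
    ((u.sheafPullback AddCommGrpCat.{u} K J).obj A).obj.map (u.map g).op (una u a) =
      una (J := J) u (A.obj.map g.op a) :=
  (NatTrans.naturality_apply ((adjA J K u).unit.app A).hom g.op a).symm

omit [PreservesFiniteLimits (P J K u)] in
lemma una_add {V : D} (a b : A.obj.obj (op V)) :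
    una (J := J) u (a + b) = una u a + una u b :=
  map_add _ a b

variable (A) in
/-- The comparison into the abelian inverse image. -/
noncomputable def theta :
    X (J := J) u A ⟶ (U J).obj ((u.sheafPullback AddCommGrpCat.{u} K J).obj A) :=
  ((adjT J K u).homEquiv _ _).symm
    ⟨{ app := fun V => ↾fun a => ((adjA J K u).unit.app A).hom.app V a
       naturality := fun V V' g => ConcreteCategory.hom_ext _ _ fun a =>
         NatTrans.naturality_apply ((adjA J K u).unit.app A).hom g a }⟩

/-- The comparison on sections. -/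
noncomputable def th {W : C} (x : (X (J := J) u A).obj.obj (op W)) :
    ((u.sheafPullback AddCommGrpCat.{u} K J).obj A).obj.obj (op W) :=
  (theta u A).hom.app (op W) x

omit [PreservesFiniteLimits (P J K u)] in
lemma th_res {W W' : C} (g : W' ⟶ W) (x : (X (J := J) u A).obj.obj (op W)) :
    ((u.sheafPullback AddCommGrpCat.{u} K J).obj A).obj.map g.op (th u x) =
      th u ((X u A).obj.map g.op x) :=
  (NatTrans.naturality_apply (theta u A).hom g.op x).symm

omit [PreservesFiniteLimits (P J K u)] in
lemma th_ea {W : C} {V : D} (h : W ⟶ u.obj V) (a : A.obj.obj (op V)) :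
    th u (ea (J := J) u h a) =
      ((u.sheafPullback AddCommGrpCat.{u} K J).obj A).obj.map h.op (una u a) := by
  have h0 : (adjT J K u).homEquiv _ _ (theta u A) = _ :=
    ((adjT J K u).homEquiv _ _).apply_symm_apply _
  rw [Adjunction.homEquiv_unit] at h0
  have h1 : th u (un u ((U K).obj A) a) = una (J := J) u a :=
    ConcreteCategory.congr_hom (congr_app (congrArg InducedCategory.Hom.hom h0) (op V)) a
  rw [← h1]
  exact (th_res u h _).symm

lemma rho_una {V : D} (a : A.obj.obj (op V)) :
    (rho (J := J) u A).hom.app (op (u.obj V)) (una u a) = ea u (𝟙 (u.obj V)) a := by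
  have h0 : (adjA J K u).homEquiv A (lift u A) (rho u A) = _ :=
    ((adjA J K u).homEquiv A (lift u A)).apply_symm_apply _
  rw [Adjunction.homEquiv_unit] at h0
  exact ConcreteCategory.congr_hom (congr_app (congrArg InducedCategory.Hom.hom h0) (op V)) a

variable (A) in
lemma theta_rho : theta (J := J) u A ≫ (U J).map (rho u A) = 𝟙 (X u A) := by
  refine hom_ext u fun W V h (a : A.obj.obj (op V)) => ?_
  change (rho u A).hom.app (op W) (th u (ea u h a)) = ea u h a
  rw [th_ea, NatTrans.naturality_apply (rho u A).hom, rho_una]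
  exact (ea_res u h (𝟙 _) a).trans (by rw [Category.comp_id])

variable (A) in
lemma isIso_theta : IsIso (theta (J := J) u A) := by
  have hadd : ∀ (W : C) (x y : (X (J := J) u A).obj.obj (op W)),
      th u (add u x y) = th u x + th u y := fun W x y => by
    obtain ⟨R, hR, hR'⟩ := locally_ea₂ u x y
    refine sec_ext (X := (U J).obj ((u.sheafPullback AddCommGrpCat.{u} K J).obj A)) hR
      fun W' g hg => ?_
    obtain ⟨V, h, a, b, ha, hb⟩ := hR' W' g hg
    change ((u.sheafPullback AddCommGrpCat.{u} K J).obj A).obj.map g.op _ =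
      ((u.sheafPullback AddCommGrpCat.{u} K J).obj A).obj.map g.op _
    rw [map_add, th_res, th_res, th_res, add_res, ha, hb, add_ea, th_ea, th_ea, th_ea, una_add,
      map_add]
  let Θ : lift (J := J) u A ⟶ (u.sheafPullback AddCommGrpCat.{u} K J).obj A :=
    ⟨{ app := fun W =>
        letI := group (J := J) u A W.unop
        AddCommGrpCat.ofHom (AddMonoidHom.mk'
          (fun x : (X (J := J) u A).obj.obj (op W.unop) => th u x) (hadd W.unop))
       naturality := fun W W' g => by
        ext x
        exact NatTrans.naturality_apply (theta u A).hom g x }⟩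
  have h : rho u A ≫ Θ = 𝟙 _ := by
    apply ((adjA J K u).homEquiv A _).injective
    rw [Adjunction.homEquiv_id, Adjunction.homEquiv_unit]
    refine Sheaf.hom_ext (NatTrans.ext (funext fun V => ?_))
    ext a
    change th u ((rho u A).hom.app (op (u.obj V.unop)) (una u a)) = una u a
    rw [rho_una, th_ea, op_id, CategoryTheory.Functor.map_id_apply]
  exact ⟨(U J).map (rho u A), theta_rho u A, (congrArg ((U J).map) h).trans ((U J).map_id _)⟩

omit [PreservesFiniteLimits (P J K u)] in
lemma theta_natural {A B : Sheaf K AddCommGrpCat.{u}} (f : A ⟶ B) :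
    (P J K u).map ((U K).map f) ≫ theta u B =
      theta u A ≫ (U J).map ((u.sheafPullback AddCommGrpCat.{u} K J).map f) := by
  refine hom_ext u fun W V h (a : A.obj.obj (op V)) => ?_
  change th u (pm u f (ea (A := A) u h a)) =
    ((u.sheafPullback AddCommGrpCat.{u} K J).map f).hom.app (op W) (th u (ea (A := A) u h a))
  rw [pm_ea, th_ea, th_ea, NatTrans.naturality_apply]
  exact congrArg _ (ConcreteCategory.congr_hom
    (congr_app (congrArg (·.hom) ((adjA J K u).unit.naturality f)) (op V)) a)

instance preservesMonomorphisms : (u.sheafPullback AddCommGrpCat.{u} K J).PreservesMonomorphisms where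
  preserves {A B} f _ := by
    haveI : ∀ V, Mono (f.hom.app V) := fun V => inferInstanceAs (Mono
      ((sheafToPresheaf K AddCommGrpCat.{u} ⋙ (evaluation Dᵒᵖ AddCommGrpCat.{u}).obj V).map f))
    haveI : Mono ((U K).map f) := by
      haveI : ∀ V, Mono (((U K).map f).hom.app V) := fun V =>
        inferInstanceAs (Mono ((forget AddCommGrpCat.{u}).map (f.hom.app V)))
      haveI := NatTrans.mono_of_mono_app ((U K).map f).hom
      exact (sheafToPresheaf K (Type u)).mono_of_mono_map (inferInstanceAs (Mono ((U K).map f).hom))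
    haveI := isIso_theta (J := J) u A
    haveI := isIso_theta (J := J) u B
    haveI : Mono (theta (J := J) u A ≫ (U J).map ((u.sheafPullback AddCommGrpCat.{u} K J).map f)) := by
      rw [← theta_natural]
      infer_instance
    haveI : Mono ((U J).map ((u.sheafPullback AddCommGrpCat.{u} K J).map f)) := by
      rw [← IsIso.inv_hom_id_assoc (theta (J := J) u A)
        ((U J).map ((u.sheafPullback AddCommGrpCat.{u} K J).map f))]
      infer_instance
    exact (U J).mono_of_mono_map inferInstance

set_option synthInstance.maxHeartbeats 400000 in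
/-- The inverse image on abelian sheaves is exact. -/
theorem preservesFiniteLimits : PreservesFiniteLimits (u.sheafPullback AddCommGrpCat.{u} K J) := by
  haveI : (u.sheafPushforwardContinuous AddCommGrpCat.{u} K J).Additive := { }
  haveI : (u.sheafPullback AddCommGrpCat.{u} K J).Additive := (adjA J K u).left_adjoint_additive
  haveI : PreservesColimitsOfSize.{0, 0} (u.sheafPullback AddCommGrpCat.{u} K J) :=
    (adjA J K u).leftAdjoint_preservesColimits
  haveI := Functor.preservesHomology_of_preservesMonos_and_cokernels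
    (u.sheafPullback AddCommGrpCat.{u} K J)
  exact Functor.preservesFiniteLimits_of_preservesHomology _

end Pairs

end Groth.Agent.Lib.SiteAb28.PullAb
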