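import Mathlib
import Groth.Agent.Lib.EtJ.RightAcyclic

/-!
# Derived limits over the simplex category

The alternating coface complex of an injective cosimplicial object is acyclic, so it computes the
right derived functors of the limit.
-/

universe v u

open CategoryTheory Limits Opposite Simplicial AlgebraicTopology

namespace Groth.Agent.Lib.SiteAb28.SimplexLim

attribute [local semireducible] SimplexCategory.Hom

variable {A : Type u} [Category.{v} A] [Abelian A]

/-- The coface complex. -/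
noncomputable abbrev cx : (SimplexCategory ⥤ A) ⥤ CochainComplex A ℕ :=
  alternatingCofaceMapComplex A

instance additive_cx : (cx (A := A)).Additive where
  map_add {F G φ ψ} := by ext n; rfl

lemma cx_shortExact {S : ShortComplex (SimplexCategory ⥤ A)} (hS : S.ShortExact) :
    (S.map (cx (A := A))).ShortExact :=
  HomologicalComplex.shortExact_of_degreewise_shortExact _ fun n =>
    hS.map_of_exact ((evaluation SimplexCategory A).obj ⦋n⦌)

/-- The differential, on the values. -/
noncomputable def dd (F : SimplexCategory ⥤ A) (n : ℕ) : F.obj ⦋n⦌ ⟶ F.obj ⦋n + 1⦌ :=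
  ∑ i : Fin (n + 2), (-1 : ℤ) ^ (i : ℕ) • F.map (SimplexCategory.δ i)

lemma d_eq (F : SimplexCategory ⥤ A) (n : ℕ) : (cx.obj F).d n (n + 1) = dd F n :=
  CochainComplex.of_d (fun n => F.obj ⦋n⦌) (AlternatingCofaceMapComplex.objD F) n

section Free

variable [HasCoproducts.{0} A] (X : A)

/-- Copies of `X` on the standard simplices. -/
noncomputable def stdFree : SimplexCategory ⥤ SimplicialObject A :=
  SSet.stdSimplex.{0} ⋙ (Functor.whiskeringRight _ _ _).obj (sigmaConst.obj X)

/-- The free cosimplicial objects, as a simplicial object. -/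
noncomputable def free : SimplicialObject (SimplexCategory ⥤ A) := (stdFree X).flip

/-- The free resolution of a constant. -/
noncomputable abbrev freeCx : ChainComplex (SimplexCategory ⥤ A) ℕ :=
  (alternatingFaceMapComplex _).obj (free X)

lemma exact_freeCx (n : ℕ) :
    (ShortComplex.mk _ _ ((freeCx X).d_comp_d (n + 2) (n + 1) n)).Exact := by
  haveI : ∀ m : SimplexCategory, ((evaluation SimplexCategory A).obj m).PreservesHomology := fun _ =>
    Functor.preservesHomologyOfExact _
  rw [ShortComplex.exact_iff_isZero_homology, Functor.isZero_iff]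
  intro m
  refine IsZero.of_iso ?_ ((ShortComplex.mapHomologyIso _ ((evaluation _ _).obj m)).symm)
  rw [← ShortComplex.exact_iff_isZero_homology]
  let ed := (SSet.Augmented.StandardSimplex.extraDegeneracy.{0} m).map (sigmaConst.obj X)
  let h := ed.homotopyEquiv
  have hz : ((ChainComplex.single₀ A).obj ((sigmaConst.obj X).obj
      (SimplicialObject.Augmented.point.obj (SSet.Augmented.stdSimplex.{0}.obj m)))).ExactAt (n + 1) :=
    HomologicalComplex.exactAt_single_obj _ _ _ _ (by simp)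
  have hex := (HomologicalComplex.exactAt_iff_isZero_homology _ _).2
    (IsZero.of_iso ((HomologicalComplex.exactAt_iff_isZero_homology _ _).1 hz)
      (h.toHomologyIso (n + 1)))
  rw [HomologicalComplex.exactAt_iff' _ (n + 2) (n + 1) n (by simp) (by simp)] at hex
  have e : ∀ i, ((freeCx X).d (i + 1) i).app m =
      (AlternatingFaceMapComplex.obj ((stdFree X).obj m)).d (i + 1) i := fun i => by
    simp only [alternatingFaceMapComplex_obj_d, AlternatingFaceMapComplex.obj_d_eq,
      AlternatingFaceMapComplex.objD, NatTrans.app_sum]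
    rfl
  refine (ShortComplex.exact_iff_of_iso ?_).1 hex
  exact ShortComplex.isoMk (Iso.refl _) (Iso.refl _) (Iso.refl _)
    ((Category.id_comp _).trans ((e (n + 1)).trans (Category.comp_id _).symm))
    ((Category.id_comp _).trans ((e n).trans (Category.comp_id _).symm))

/-- The map out of a free cosimplicial object. -/
noncomputable def ext {n : ℕ} {I : SimplexCategory ⥤ A} (x : X ⟶ I.obj ⦋n⦌) :
    (free X).obj (op ⦋n⦌) ⟶ I where
  app m := Sigma.desc fun θ => x ≫ I.map (SSet.stdSimplex.objEquiv θ)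
  naturality m m' g := Limits.Sigma.hom_ext _ _ fun θ => by
    change Limits.Sigma.ι _ θ ≫ (sigmaConst.obj X).map
      ((SSet.stdSimplex.{0}.map g).app (op ⦋n⦌)) ≫ _ = _
    simp [sigmaConst]
    refine Eq.trans ?_ (((Sigma.ι_desc_assoc (fun θ => x ≫ I.map (SSet.stdSimplex.objEquiv θ)) θ _).trans
      (Category.assoc _ _ _)).symm)
    exact congrArg (x ≫ ·) (I.map_comp (SSet.stdSimplex.objEquiv θ) g)

/-- The tautological section. -/
noncomputable def taut (n : ℕ) : X ⟶ ((free X).obj (op ⦋n⦌)).obj ⦋n⦌ :=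
  Limits.Sigma.ι (fun _ : (Δ[n] : SSet.{0}).obj (op ⦋n⦌) => X)
    (SSet.stdSimplex.objEquiv.symm (𝟙 ⦋n⦌))

lemma taut_ext {n : ℕ} {I : SimplexCategory ⥤ A} (x : X ⟶ I.obj ⦋n⦌) :
    taut X n ≫ (ext X x).app ⦋n⦌ = x := by
  refine (Sigma.ι_desc _ _).trans ?_
  simp

lemma hom_ext' {n : ℕ} {I : SimplexCategory ⥤ A} {a b : (free X).obj (op ⦋n⦌) ⟶ I}
    (h : taut X n ≫ a.app ⦋n⦌ = taut X n ≫ b.app ⦋n⦌) : a = b := by
  ext m : 2
  refine Limits.Sigma.hom_ext _ _ fun θ => ?_
  have e : taut X n ≫ ((free X).obj (op ⦋n⦌)).map (SSet.stdSimplex.objEquiv θ) =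
      Limits.Sigma.ι (fun _ : (SSet.stdSimplex.{0}.obj m).obj (op ⦋n⦌) => X) θ := by
    refine (Sigma.ι_desc _ _).trans ((Category.id_comp _).trans ?_)
    exact congrArg (Limits.Sigma.ι (fun _ : (SSet.stdSimplex.{0}.obj m).obj (op ⦋n⦌) => X))
      (SSet.stdSimplex.objEquiv.injective rfl)
  refine (congrArg (· ≫ a.app m) e).symm.trans (Eq.trans ?_ (congrArg (· ≫ b.app m) e))
  simp only [Category.assoc, a.naturality, b.naturality]
  rw [← Category.assoc, h, Category.assoc]

lemma taut_d {n : ℕ} {I : SimplexCategory ⥤ A} (f : (free X).obj (op ⦋n⦌) ⟶ I) :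
    taut X (n + 1) ≫ ((freeCx X).d (n + 1) n ≫ f).app ⦋n + 1⦌ =
      (taut X n ≫ f.app ⦋n⦌) ≫ dd I n := by
  rw [dd, Preadditive.comp_sum, alternatingFaceMapComplex_obj_d, AlternatingFaceMapComplex.objD,
    Preadditive.sum_comp, NatTrans.app_sum, Preadditive.comp_sum]
  refine Finset.sum_congr rfl fun i _ => ?_
  rw [Preadditive.zsmul_comp, NatTrans.app_zsmul, Preadditive.comp_zsmul, Preadditive.comp_zsmul]
  refine congrArg _ ?_
  rw [Category.assoc]
  refine Eq.trans ?_ (congrArg (taut X n ≫ ·) (f.naturality (SimplexCategory.δ i)))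
  rw [NatTrans.comp_app, ← Category.assoc, ← Category.assoc]
  refine congrArg (· ≫ f.app ⦋n + 1⦌) ?_
  refine (Sigma.ι_desc _ _).trans ?_
  symm
  refine (Sigma.ι_desc _ _).trans ?_
  symm
  refine congrArg (𝟙 X ≫ ·) ?_
  exact congrArg (Limits.Sigma.ι (fun _ : (Δ[n + 1] : SSet.{0}).obj (op ⦋n⦌) => X))
    (SSet.stdSimplex.objEquiv.injective rfl)

end Free

theorem isZero_homology_injective [HasCoproducts.{0} A] (I : SimplexCategory ⥤ A) [Injective I]
    (n : ℕ) : IsZero ((cx.obj I).homology (n + 1)) := by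
  rw [← HomologicalComplex.exactAt_iff_isZero_homology,
    HomologicalComplex.exactAt_iff' _ n (n + 1) (n + 2) (by simp) (by simp),
    ShortComplex.exact_iff_exact_up_to_refinements]
  intro X x hx
  let f := ext X (I := I) (n := n + 1) x
  have hf : (freeCx X).d (n + 2) (n + 1) ≫ f = 0 := hom_ext' X
    ((taut_d X f).trans ((congrArg (fun t : X ⟶ I.obj ⦋n + 1⦌ =>
      t ≫ dd I (n + 1)) (taut_ext X x)).trans
        (((congrArg (x ≫ ·) (d_eq I (n + 1))).symm.trans hx).trans comp_zero.symm)))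
  obtain ⟨g, hg⟩ : ∃ g, (freeCx X).d (n + 1) n ≫ g = f :=
    ⟨(exact_freeCx X n).descToInjective f hf, (exact_freeCx X n).comp_descToInjective f hf⟩
  refine ⟨X, 𝟙 X, inferInstance, taut X n ≫ g.app ⦋n⦌, ?_⟩
  refine (Category.id_comp x).trans ((taut_ext X x).symm.trans ?_)
  change taut X (n + 1) ≫ f.app _ = _
  rw [← hg]
  exact (taut_d X g).trans (congrArg (_ ≫ ·) (d_eq I n).symm)

section Lim

variable [HasLimitsOfShape SimplexCategory A]

/-- Projection of the limit to degree zero. -/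
noncomputable abbrev π₀ (F : SimplexCategory ⥤ A) : limit F ⟶ F.obj ⦋0⦌ := limit.π F ⦋0⦌

lemma π₀_d (F : SimplexCategory ⥤ A) :
    π₀ F ≫ dd F 0 = 0 := by
  rw [dd, Fin.sum_univ_two, Preadditive.comp_add]
  have h : ∀ i : Fin 2, π₀ F ≫ F.map (SimplexCategory.δ i) = limit.π F ⦋1⦌ := fun i =>
    limit.w F (SimplexCategory.δ i)
  simp [h]

lemma map_vertex_eq (F : SimplexCategory ⥤ A) {X : A} (x : X ⟶ F.obj ⦋0⦌)
    (hx : x ≫ dd F 0 = 0) {m : SimplexCategory} (a b : Fin (m.len + 1)) :
    x ≫ F.map (SimplexCategory.const ⦋0⦌ m a) = x ≫ F.map (SimplexCategory.const ⦋0⦌ m b) := by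
  have hd : x ≫ F.map (SimplexCategory.δ (0 : Fin 2)) = x ≫ F.map (SimplexCategory.δ (1 : Fin 2)) := by
    rw [dd, Fin.sum_univ_two, Preadditive.comp_add] at hx
    simpa [← sub_eq_add_neg, sub_eq_zero] using hx
  suffices H : ∀ a b : Fin (m.len + 1), a ≤ b → x ≫ F.map (SimplexCategory.const ⦋0⦌ m a) =
      x ≫ F.map (SimplexCategory.const ⦋0⦌ m b) by
    rcases le_total a b with h | h
    · exact H a b h
    · exact (H b a h).symm
  intro a b hab
  let e : (⦋1⦌ : SimplexCategory) ⟶ m := SimplexCategory.mkHom ⟨![a, b], by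
    intro i j hij; fin_cases i <;> fin_cases j <;> simp_all⟩
  have h1 : SimplexCategory.δ (1 : Fin 2) ≫ e = SimplexCategory.const ⦋0⦌ m a := by
    ext i; fin_cases i; rfl
  have h0 : SimplexCategory.δ (0 : Fin 2) ≫ e = SimplexCategory.const ⦋0⦌ m b := by
    ext i; fin_cases i; rfl
  rw [← h1, ← h0, Functor.map_comp, Functor.map_comp, ← Category.assoc, ← Category.assoc]
  exact congrArg (· ≫ F.map e) hd.symm

/-- The cone on a cocycle of degree zero. -/
noncomputable def coneOf (F : SimplexCategory ⥤ A) {X : A} (x : X ⟶ F.obj ⦋0⦌)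
    (hx : x ≫ dd F 0 = 0) : Cone F where
  pt := X
  π :=
    { app := fun m => x ≫ F.map (SimplexCategory.const ⦋0⦌ m 0)
      naturality := fun m k θ => by
        refine (Category.id_comp _).trans ?_
        rw [Category.assoc, ← Functor.map_comp, SimplexCategory.const_comp]
        exact map_vertex_eq F x hx _ _ }

lemma lift_π₀ (F : SimplexCategory ⥤ A) {X : A} (x : X ⟶ F.obj ⦋0⦌)
    (hx : x ≫ dd F 0 = 0) : limit.lift F (coneOf F x hx) ≫ π₀ F = x := by
  refine (limit.lift_π _ _).trans ?_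
  change x ≫ F.map (SimplexCategory.const ⦋0⦌ ⦋0⦌ 0) = x
  rw [show SimplexCategory.const ⦋0⦌ ⦋0⦌ 0 = 𝟙 _ from SimplexCategory.hom_zero_zero _,
    CategoryTheory.Functor.map_id, Category.comp_id]

lemma limit_hom_ext₀ (F : SimplexCategory ⥤ A) {X : A} {f g : X ⟶ limit F}
    (h : f ≫ π₀ F = g ≫ π₀ F) : f = g := by
  ext m
  rw [← limit.w F (SimplexCategory.const ⦋0⦌ m 0)]
  exact (Category.assoc _ _ _).symm.trans
    ((congrArg (· ≫ F.map _) h).trans (Category.assoc _ _ _))

/-- The projection, into the complex. -/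
noncomputable def π₀' (F : SimplexCategory ⥤ A) : limit F ⟶ (cx.obj F).X 0 := π₀ F

lemma π₀'_d (F : SimplexCategory ⥤ A) : π₀' F ≫ (cx.obj F).d 0 1 = 0 :=
  (congrArg (π₀ F ≫ ·) (d_eq F 0)).trans (π₀_d F)

/-- The limit is the degree zero cohomology. -/
noncomputable def toH0 (F : SimplexCategory ⥤ A) : limit F ⟶ (cx.obj F).homology 0 :=
  (cx.obj F).liftCycles (π₀' F) 1 (by simp) (π₀'_d F) ≫ (cx.obj F).homologyπ 0

instance isIso_toH0 (F : SimplexCategory ⥤ A) : IsIso (toH0 F) := by
  haveI : IsIso ((cx.obj F).liftCycles (π₀' F) 1 (by simp) (π₀'_d F)) := by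
    refine ⟨limit.lift F (coneOf F ((cx.obj F).iCycles 0) ((congrArg ((cx.obj F).iCycles 0 ≫ ·) (d_eq F 0)).symm.trans ((cx.obj F).iCycles_d 0 1))), ?_, ?_⟩
    · refine limit_hom_ext₀ F ?_
      exact ((Category.assoc _ _ _).trans ((congrArg (_ ≫ ·) (lift_π₀ F _ _)).trans
        ((cx.obj F).liftCycles_i _ _ _ _))).trans (Category.id_comp _).symm
    · refine (cancel_mono ((cx.obj F).iCycles 0)).1 ?_
      exact ((Category.assoc _ _ _).trans ((congrArg (_ ≫ ·) ((cx.obj F).liftCycles_i _ _ _ _)).trans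
        (lift_π₀ F _ _))).trans (Category.id_comp _).symm
  haveI : IsIso ((cx.obj F).homologyπ 0) :=
    inferInstanceAs (IsIso (CochainComplex.isoHomologyπ₀ (cx.obj F)).hom)
  unfold toH0
  infer_instance

lemma toH0_nat {F G : SimplexCategory ⥤ A} (φ : F ⟶ G) :
    toH0 F ≫ HomologicalComplex.homologyMap (cx.map φ) 0 = limMap φ ≫ toH0 G := by
  have h : π₀' F ≫ (cx.map φ).f 0 = limMap φ ≫ π₀' G := (limMap_π φ ⦋0⦌).symm
  simp only [toH0, Category.assoc, HomologicalComplex.homologyπ_naturality]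
  rw [← Category.assoc, HomologicalComplex.liftCycles_comp_cyclesMap, ← Category.assoc,
    HomologicalComplex.comp_liftCycles]
  simp only [h]

variable [HasCoproducts.{0} A] [EnoughInjectives (SimplexCategory ⥤ A)]
  [(lim : (SimplexCategory ⥤ A) ⥤ A).Additive]

open Lib.EtJ.RightAcyclic in
theorem nonempty_iso (F : SimplexCategory ⥤ A) (n : ℕ) :
    Nonempty (((lim : (SimplexCategory ⥤ A) ⥤ A).rightDerived n).obj F ≅ (cx.obj F).homology n) := by
  cases n with
  | zero =>
    exact ⟨((lim : (SimplexCategory ⥤ A) ⥤ A).rightDerivedZeroIsoSelf.app F) ≪≫ asIso (toH0 F)⟩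
  | succ n =>
    let P := injectiveResolution F
    let T : (SimplexCategory ⥤ A) ⥤ A := lim
    let hSE : ∀ k, ((seq P k).map cx).ShortExact := fun k => cx_shortExact (seq_shortExact P k)
    have hI : ∀ k p, IsZero (((seq P k).map cx).X₂.homology (p + 1)) := fun k p =>
      isZero_homology_injective (P.cocomplex.X k) p
    have shift : ∀ k p, Nonempty ((cx.obj (cyc P 0)).homology (k + p + 1) ≅
        (cx.obj (cyc P k)).homology (p + 1)) := by
      intro k
      induction k with
      | zero => exact fun p => ⟨eqToIso (by rw [Nat.zero_add])⟩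
      | succ k ih =>
        intro p
        obtain ⟨e⟩ := ih (p + 1)
        exact ⟨eqToIso (by rw [show k + 1 + p + 1 = k + (p + 1) + 1 by omega]) ≪≫ e ≪≫
          ((hSE k).δIso (p + 1) (p + 2) (by simp) (hI k p) (hI k (p + 1))).symm⟩
    obtain ⟨e⟩ := shift n 0
    haveI : Epi ((hSE n).δ 0 1 (by simp)) :=
      ((hSE n).homology_exact₁ 0 1 (by simp)).epi_f ((hI n 0).eq_of_tgt _ _)
    let e₁ : cokernel (HomologicalComplex.homologyMap ((seq P n).map cx).g 0) ≅
        (cx.obj (cyc P n)).homology 1 :=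
      (cokernelIsCokernel _).coconePointUniqueUpToIso
        ((hSE n).homology_exact₃ 0 1 _).gIsCokernel
    let e₂ : cokernel (T.map (seq P n).g) ≅
        cokernel (HomologicalComplex.homologyMap ((seq P n).map cx).g 0) :=
      cokernel.mapIso _ _ (@asIso _ _ _ _ (toH0 _) (isIso_toH0 _)) (@asIso _ _ _ _ (toH0 _) (isIso_toH0 _)) (toH0_nat (seq P n).g).symm
    let K := (T.mapHomologicalComplex _).obj P.cocomplex
    have wi : T.map (kernel.ι (P.cocomplex.d (n + 1) (n + 2))) ≫ (K.sc' n (n + 1) (n + 2)).g = 0 :=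
      (T.map_comp _ _).symm.trans ((congrArg T.map (kernel.condition _)).trans (T.map_zero _ _))
    let hi : IsLimit (KernelFork.ofι _ wi) := IsLimit.ofIsoLimit
          (KernelFork.mapIsLimit _ (kernelIsKernel (P.cocomplex.d (n + 1) (n + 2))) T)
          (Fork.ext (Iso.refl _) (Category.id_comp _))
    let f' : T.obj (P.cocomplex.X n) ⟶ T.obj (cyc P (n + 1)) :=
      hi.lift (KernelFork.ofι (K.sc' n (n + 1) (n + 2)).f (K.sc' n (n + 1) (n + 2)).zero)
    have hf : f' = T.map (seq P n).g := by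
      refine Fork.IsLimit.hom_ext hi ?_
      refine (Fork.IsLimit.lift_ι' hi _ _).trans ?_
      exact ((T.map_comp _ _).symm.trans (congrArg T.map (kernel.lift_ι _ _ _))).symm
    let L : (K.sc' n (n + 1) (n + 2)).LeftHomologyData :=
      { K := T.obj (cyc P (n + 1))
        H := cokernel f'
        i := T.map (kernel.ι _)
        π := cokernel.π f'
        wi := wi
        hi := hi
        wπ := cokernel.condition f'
        hπ := cokernelIsCokernel f' }
    exact ⟨P.isoRightDerivedObj T (n + 1) ≪≫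
      (K.isoSc' n (n + 1) (n + 2) (by simp) (by simp) |> ShortComplex.homologyMapIso) ≪≫
      L.homologyIso ≪≫ cokernelIsoOfEq hf ≪≫ e₂ ≪≫ e₁ ≪≫ e.symm ≪≫
      (HomologicalComplex.homologyFunctor A _ (n + 1)).mapIso (cx.mapIso (isoCyc₀ P).symm)⟩

end Lim

end Groth.Agent.Lib.SiteAb28.SimplexLim
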